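import Mathlib
import Groth.Agent.CILib.Conormal

/-!
The projection onto the conormal module of a syntomic presentation, as a matrix.
-/

set_option autoImplicit false

universe u

open Matrix

namespace Groth.Agent.SyntLiftLib

/-- The conormal module of a syntomic presentation is projective. -/
theorem conormal_projective {R : Type u} [CommRing R] {n : ℕ} (I : Ideal (MvPolynomial (Fin n) R)) (hI : I.FG)
    (h : Synt.IsSyntomic R (MvPolynomial (Fin n) R ⧸ I)) :
    Module.Finite (MvPolynomial (Fin n) R ⧸ I) I.Cotangent ∧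
      Module.Projective (MvPolynomial (Fin n) R ⧸ I) I.Cotangent := by
  refine CILib.finite_projective_of_local_basis fun q => ?_
  obtain ⟨c, F, v, hv, hF, hk, hG⟩ := CILib.exists_pres_nhd h (Ideal.Quotient.mkₐ R I)
    Ideal.Quotient.mk_surjective (by show (RingHom.ker (Ideal.Quotient.mk I)).FG; rwa [Ideal.mk_ker]) q
  have hF' : ∀ i, F i ∈ I := fun i => Ideal.Quotient.eq_zero_iff_mem.1 (hF i)
  obtain ⟨hs, hi⟩ := CILib.conormal_local_basis I F v hF'
    (fun x hx => hk x (Ideal.Quotient.eq_zero_iff_mem.2 hx)) fun r _ => CILib.isWeaklyRegular_of_awayPres F v hG r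
  exact ⟨Ideal.Quotient.mk I v, hv, c, _, hs, hi⟩

variable {P P₀ : Type u} [CommRing P] [CommRing P₀] {m : ℕ}

/-- A projective conormal module gives an idempotent matrix on the equations. -/
theorem exists_matrix (φ : P →+* P₀) (hφ : Function.Surjective φ) (J : Ideal P₀) (f : Fin m → P)
    (hJ : J = Ideal.span (Set.range fun j => φ (f j))) [Module.Projective (P₀ ⧸ J) J.Cotangent] :
    ∃ E : Matrix (Fin m) (Fin m) P,
      (∀ j, φ (∑ i, E i j * f i - f j) ∈ J ^ 2) ∧
      (∀ c : Fin m → P, φ (∑ i, c i * f i) ∈ J ^ 2 → ∀ i, φ ((E *ᵥ c) i) ∈ J) ∧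
      ∀ i j, φ ((E * E - E) i j) ∈ J := by
  classical
  have hfJ : ∀ j, φ (f j) ∈ J := fun j => hJ ▸ Ideal.subset_span ⟨j, rfl⟩
  let cl : Fin m → J.Cotangent := fun j => J.toCotangent ⟨φ (f j), hfJ j⟩
  let π : P →+* P₀ ⧸ J := (Ideal.Quotient.mk J).comp φ
  have hπ : Function.Surjective π := Ideal.Quotient.mk_surjective.comp hφ
  let q : (Fin m → P₀ ⧸ J) →ₗ[P₀ ⧸ J] J.Cotangent := Fintype.linearCombination (P₀ ⧸ J) cl
  have hq' : ∀ c : Fin m → P, q (fun i => π (c i)) = 0 ↔ φ (∑ i, c i * f i) ∈ J ^ 2 := fun c => by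
    have hmem : φ (∑ i, c i * f i) ∈ J := by
      rw [map_sum]
      exact sum_mem fun i _ => by rw [map_mul]; exact J.mul_mem_left _ (hfJ i)
    have : q (fun i => π (c i)) = J.toCotangent ⟨φ (∑ i, c i * f i), hmem⟩ := by
      show Fintype.linearCombination (P₀ ⧸ J) cl _ = _
      rw [Fintype.linearCombination_apply]
      have he : (⟨φ (∑ i, c i * f i), hmem⟩ : J) = ∑ i, φ (c i) • (⟨φ (f i), hfJ i⟩ : J) := by
        refine Subtype.ext ?_
        simp [map_sum, map_mul]
      rw [he, map_sum]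
      refine Finset.sum_congr rfl fun i _ => ?_
      rw [map_smul]
      rfl
    rw [this, Ideal.toCotangent_eq_zero]
  have hqs : Function.Surjective q := by
    intro z
    obtain ⟨⟨x, hx⟩, rfl⟩ := J.toCotangent_surjective z
    have hx' : x ∈ Ideal.span (Set.range fun j => φ (f j)) := hJ ▸ hx
    obtain ⟨c, hc⟩ := Ideal.mem_span_range_iff_exists_fun.1 hx'
    refine ⟨fun i => Ideal.Quotient.mk J (c i), ?_⟩
    show Fintype.linearCombination (P₀ ⧸ J) cl _ = _
    rw [Fintype.linearCombination_apply]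
    have he : (⟨x, hx⟩ : J) = ∑ i, c i • (⟨φ (f i), hfJ i⟩ : J) := by
      refine Subtype.ext ?_
      simp [← hc]
    rw [he, map_sum]
    refine Finset.sum_congr rfl fun i _ => ?_
    rw [map_smul]
    rfl
  obtain ⟨s, hs⟩ := Module.projective_lifting_property q LinearMap.id hqs
  have hs' : ∀ z, q (s z) = z := fun z => LinearMap.congr_fun hs z
  choose E hE using fun i j => hπ (s (cl j) i)
  have hEv : ∀ (c : Fin m → P) i, π ((Matrix.of E *ᵥ c) i) = s (q fun l => π (c l)) i := fun c i => by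
    rw [show q (fun l => π (c l)) = ∑ l, π (c l) • cl l from Fintype.linearCombination_apply _ _ _,
      map_sum, Finset.sum_apply]
    show π (∑ l, E i l * c l) = _
    rw [map_sum]
    refine Finset.sum_congr rfl fun l _ => ?_
    rw [map_mul, hE, map_smul, Pi.smul_apply, smul_eq_mul, mul_comm]
  have hm : ∀ x : P, π x = 0 ↔ φ x ∈ J := fun x => Ideal.Quotient.eq_zero_iff_mem
  have h2 : ∀ c : Fin m → P, φ (∑ i, c i * f i) ∈ J ^ 2 → ∀ i, φ ((Matrix.of E *ᵥ c) i) ∈ J := fun c hc i => by
    rw [← hm, hEv, (hq' c).2 hc, map_zero, Pi.zero_apply]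
  have h1 : ∀ j, φ (∑ i, E i j * f i - f j) ∈ J ^ 2 := fun j => by
    have h : ∑ i, E i j * f i - f j = ∑ i, (E i j - (Pi.single j 1 : Fin m → P) i) * f i := by
      simp [sub_mul, Pi.single_apply]
    rw [h, ← hq' fun i => E i j - (Pi.single j 1 : Fin m → P) i]
    have hfun : (fun i => π (E i j - (Pi.single j 1 : Fin m → P) i)) =
        s (cl j) - Pi.single j (1 : P₀ ⧸ J) := funext fun i => by
      rw [map_sub, hE, Pi.sub_apply]
      simp [Pi.single_apply, apply_ite π]
    rw [hfun, map_sub, hs', show q (Pi.single j (1 : P₀ ⧸ J)) = cl j by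
      simp [q, Fintype.linearCombination_apply, Pi.single_apply], sub_self]
  refine ⟨Matrix.of E, h1, h2, fun i j => ?_⟩
  have h3 := h2 ((fun i => E i j) - Pi.single j 1) (by
    convert h1 j using 2
    simp [sub_mul, Pi.single_apply]) i
  rw [Matrix.mulVec_sub, Pi.sub_apply, Matrix.mulVec_single_one] at h3
  exact h3

end Groth.Agent.SyntLiftLib
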