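import Mathlib

/-!
Fibre dimensions through a map which is injective on spectra, and presentations of etale algebras
over affine space.
-/

set_option autoImplicit false

universe u

namespace Groth.Agent.SyntLiftLib

/-- Bound on a fibre of an algebra over the quotient by an ideal inside the base prime. -/
theorem ringKrullDim_fibre_le {R : Type u} [CommRing R] (I : Ideal R) {Z L : Type u} [CommRing Z]
    [Algebra (R ⧸ I) Z] [CommRing L] [Algebra R L] (p : Ideal R) [p.IsPrime] (hIp : I ≤ p)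
    (p₀ : Ideal (R ⧸ I)) [p₀.IsPrime] (hp₀ : p₀.comap (Ideal.Quotient.mk I) = p)
    (ρ : Z →+* L ⧸ I.map (algebraMap R L))
    (hρ : ∀ r : R, ρ (algebraMap (R ⧸ I) Z (Ideal.Quotient.mk I r)) = algebraMap R (L ⧸ I.map (algebraMap R L)) r)
    (hinj : Function.Injective (PrimeSpectrum.comap ρ)) :
    ringKrullDim (p.Fiber L) ≤ ringKrullDim (p₀.Fiber Z) := by
  let mkL := Ideal.Quotient.mk (I.map (algebraMap R L))
  have hle : ∀ Q : PrimeSpectrum L, PrimeSpectrum.comap (algebraMap R L) Q = (⟨p, ‹_›⟩ : PrimeSpectrum R) →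
      RingHom.ker mkL ≤ Q.asIdeal := fun Q hQ => by
    rw [Ideal.mk_ker, Ideal.map_le_iff_le_comap]
    exact hIp.trans (congrArg PrimeSpectrum.asIdeal hQ).ge
  have hprime : ∀ Q : PrimeSpectrum L, PrimeSpectrum.comap (algebraMap R L) Q = (⟨p, ‹_›⟩ : PrimeSpectrum R) →
      (Q.asIdeal.map mkL).IsPrime := fun Q hQ =>
    Ideal.map_isPrime_of_surjective Ideal.Quotient.mk_surjective (hle Q hQ)
  have hback : ∀ Q : PrimeSpectrum L, PrimeSpectrum.comap (algebraMap R L) Q = (⟨p, ‹_›⟩ : PrimeSpectrum R) →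
      (Q.asIdeal.map mkL).comap mkL = Q.asIdeal := fun Q hQ => by
    rw [Ideal.comap_map_of_surjective' _ Ideal.Quotient.mk_surjective, sup_eq_left]
    exact hle Q hQ
  let Φ : (PrimeSpectrum.comap (algebraMap R L) ⁻¹' {(⟨p, ‹_›⟩ : PrimeSpectrum R)}) →
      (PrimeSpectrum.comap (algebraMap (R ⧸ I) Z) ⁻¹' {(⟨p₀, ‹_›⟩ : PrimeSpectrum (R ⧸ I))}) := fun Q =>
    ⟨PrimeSpectrum.comap ρ ⟨Q.1.asIdeal.map mkL, hprime Q.1 Q.2⟩, PrimeSpectrum.ext (by
      refine Ideal.comap_injective_of_surjective _ Ideal.Quotient.mk_surjective (Eq.trans ?_ hp₀.symm)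
      show (((Q.1.asIdeal.map mkL).comap ρ).comap (algebraMap (R ⧸ I) Z)).comap (Ideal.Quotient.mk I) = p
      rw [Ideal.comap_comap, Ideal.comap_comap,
        show ρ.comp ((algebraMap (R ⧸ I) Z).comp (Ideal.Quotient.mk I)) = mkL.comp (algebraMap R L) from
          RingHom.ext hρ, ← Ideal.comap_comap, hback Q.1 Q.2]
      exact congrArg PrimeSpectrum.asIdeal Q.2)⟩
  have hmono : Monotone Φ := fun Q Q' h => Ideal.comap_mono (Ideal.map_mono h)
  have hΦ : Function.Injective Φ := fun Q Q' h => by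
    have h' : (⟨Q.1.asIdeal.map mkL, hprime Q.1 Q.2⟩ : PrimeSpectrum (L ⧸ I.map (algebraMap R L))) =
        ⟨Q'.1.asIdeal.map mkL, hprime Q'.1 Q'.2⟩ := hinj (congrArg Subtype.val h)
    refine Subtype.ext (PrimeSpectrum.ext ?_)
    rw [← hback Q.1 Q.2, ← hback Q'.1 Q'.2]
    exact congrArg (fun z => Ideal.comap mkL z.asIdeal) h'
  let e := PrimeSpectrum.preimageOrderIsoFiber R L ⟨p, ‹_›⟩
  let e₀ := PrimeSpectrum.preimageOrderIsoFiber (R ⧸ I) Z ⟨p₀, ‹_›⟩
  exact ((Order.krullDim_eq_of_orderIso e).symm.trans_le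
    (Order.krullDim_le_of_strictMono Φ (hmono.strictMono_of_injective hΦ))).trans
      (Order.krullDim_eq_of_orderIso e₀).le

/-- An algebra etale over affine space has as many more variables as equations. -/
theorem exists_pres_of_etale {R : Type u} [CommRing R] {n : ℕ} (T : Type u) [CommRing T]
    [Algebra (MvPolynomial (Fin n) R) T] [Algebra R T] [IsScalarTower R (MvPolynomial (Fin n) R) T]
    [Algebra.Etale (MvPolynomial (Fin n) R) T] :
    ∃ (k : ℕ) (ψ : MvPolynomial (Fin (k + n)) R →ₐ[R] T) (H : Fin k → MvPolynomial (Fin (k + n)) R),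
      Function.Surjective ψ ∧ RingHom.ker ψ.toRingHom = Ideal.span (Set.range H) := by
  classical
  haveI := Algebra.Etale.iff_isStandardSmoothOfRelativeDimension_zero.1
    (inferInstance : Algebra.Etale (MvPolynomial (Fin n) R) T)
  obtain ⟨ι, σ, _, _, P, hP⟩ := Algebra.IsStandardSmoothOfRelativeDimension.out
    (n := 0) (R := MvPolynomial (Fin n) R) (S := T)
  have hcard : Nat.card σ = Nat.card ι := by
    have h1 := Nat.card_le_card_of_injective P.map P.map_inj
    have h2 : Nat.card ι - Nat.card σ = 0 := hP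
    omega
  let eι : ι ≃ Fin (Nat.card ι) := Finite.equivFin ι
  let eσ : σ ≃ Fin (Nat.card ι) := (Finite.equivFin σ).trans (finCongr hcard)
  let e : MvPolynomial (Fin (Nat.card ι + n)) R ≃ₐ[R] MvPolynomial ι (MvPolynomial (Fin n) R) :=
    (MvPolynomial.renameEquiv R (finSumFinEquiv.symm.trans (Equiv.sumCongr eι.symm (Equiv.refl _)))).trans
      (MvPolynomial.sumAlgEquiv R ι (Fin n))
  let g : MvPolynomial ι (MvPolynomial (Fin n) R) →ₐ[MvPolynomial (Fin n) R] T := MvPolynomial.aeval P.val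
  have hg : Function.Surjective g := P.aeval_val_surjective
  have hker : RingHom.ker g.toRingHom = Ideal.span (Set.range P.relation) :=
    (P.span_range_relation_eq_ker.trans P.ker_eq_ker_aeval_val).symm
  refine ⟨Nat.card ι, (g.restrictScalars R).comp e.toAlgHom, fun i => e.symm (P.relation (eσ.symm i)),
    hg.comp e.surjective, ?_⟩
  show RingHom.ker (g.toRingHom.comp e.toRingEquiv.toRingHom) = _
  rw [← RingHom.comap_ker, hker, RingEquiv.toRingHom_eq_coe]
  rw [show Ideal.comap (e.toRingEquiv : _ →+* _) (Ideal.span (Set.range P.relation)) =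
    Ideal.comap e.toRingEquiv (Ideal.span (Set.range P.relation)) from rfl]
  rw [← Ideal.map_symm, Ideal.map_span, ← Set.range_comp]
  congr 1
  exact ((eσ.symm.surjective).range_comp fun s => e.symm (P.relation s)).symm

end Groth.Agent.SyntLiftLib
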