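import Mathlib
import Groth.Agent.CILib.Conormal
import Groth.Agent.SyntLiftLib.Fibre

/-!
Near the closed subscheme, the zero scheme of the projected equations is syntomic.
-/

set_option autoImplicit false
set_option backward.isDefEq.respectTransparency false

universe u

open Matrix

namespace Groth.Agent.SyntLiftLib

variable {R : Type u} [CommRing R] (I : Ideal R) {n m : ℕ}

theorem exists_syntomic_nbhd {C : Type u} [CommRing C] [Algebra (R ⧸ I) C] (hC : Synt.IsSyntomic (R ⧸ I) C)
    (π₀ : MvPolynomial (Fin n) (R ⧸ I) →ₐ[R ⧸ I] C) (hπ₀ : Function.Surjective π₀)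
    (f : Fin m → MvPolynomial (Fin n) R)
    (hJ : RingHom.ker π₀.toRingHom =
      Ideal.span (Set.range fun j => MvPolynomial.map (Ideal.Quotient.mk I) (f j)))
    (E₀ : Matrix (Fin m) (Fin m) (MvPolynomial (Fin n) R))
    (h2 : ∀ c : Fin m → MvPolynomial (Fin n) R, MvPolynomial.map (Ideal.Quotient.mk I) (∑ i, c i * f i) = 0 →
      ∀ i, π₀ (MvPolynomial.map (Ideal.Quotient.mk I) ((E₀ *ᵥ c) i)) = 0)
    {T : Type u} [CommRing T] [Algebra (MvPolynomial (Fin n) R) T] [Algebra R T]
    [IsScalarTower R (MvPolynomial (Fin n) R) T] [Algebra.Etale (MvPolynomial (Fin n) R) T]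
    (πT : T →+* C) (hπT : ∀ p, πT (algebraMap _ T p) = π₀ (MvPolynomial.map (Ideal.Quotient.mk I) p))
    (E : Matrix (Fin m) (Fin m) T) (hE : E * E = E)
    (hEE₀ : ∀ i j, πT (E i j) = π₀ (MvPolynomial.map (Ideal.Quotient.mk I) (E₀ i j)))
    (G : Ideal T) (hG : G = Ideal.span (Set.range fun j => ∑ i, algebraMap _ T (f i) * E i j))
    (hker : RingHom.ker πT = G ⊔ I.map (algebraMap R T))
    (q : Ideal T) [q.IsPrime] (hq : RingHom.ker πT ≤ q) :
    ∃ d ∉ q, Synt.IsSyntomic R (Localization.Away (Ideal.Quotient.mk G d)) := by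
  classical
  let P := MvPolynomial (Fin n) R
  let P₀ := MvPolynomial (Fin n) (R ⧸ I)
  let red : P →+* P₀ := MvPolynomial.map (Ideal.Quotient.mk I)
  have hred : Function.Surjective red := MvPolynomial.map_surjective _ Ideal.Quotient.mk_surjective
  let κ : P →+* T := algebraMap P T
  have hπTs : Function.Surjective πT := fun z => by
    obtain ⟨p, rfl⟩ := hπ₀ z
    obtain ⟨p, rfl⟩ := hred p
    exact ⟨_, hπT p⟩
  have hpT : ∀ x : T, ∃ p : P, x - κ p ∈ RingHom.ker πT := fun x => by
    obtain ⟨p, hp⟩ := hπ₀ (πT x)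
    obtain ⟨p, rfl⟩ := hred p
    exact ⟨p, by rw [RingHom.mem_ker, map_sub, hπT, hp, sub_self]⟩
  haveI hq₀ : (q.map πT).IsPrime := Ideal.map_isPrime_of_surjective hπTs hq
  obtain ⟨c, F, v₀, hv₀, hF, hk, hrel⟩ := CILib.exists_pres_nhd hC π₀ hπ₀
    (by rw [hJ]; exact Submodule.fg_span (Set.finite_range _)) ⟨q.map πT, hq₀⟩
  -- the local basis
  choose F' hF' using fun l => hred (F l)
  obtain ⟨v, rfl⟩ := hred v₀
  have hFA : ∀ l, ∃ a : Fin m → P, red (∑ i, a i * f i) = F l := fun l => by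
    have h := hF l
    rw [hJ] at h
    obtain ⟨a, ha⟩ := Ideal.mem_span_range_iff_exists_fun.1 h
    choose a' ha' using fun i => hred (a i)
    refine ⟨a', ?_⟩
    rw [map_sum, ← ha]
    exact Finset.sum_congr rfl fun i _ => by rw [map_mul, ha']
  choose A hA using hFA
  have hB : ∀ j, ∃ b : Fin c → P, red (∑ l, b l * ∑ i, A l i * f i) = red (v * f j) := fun j => by
    have h := hk (red (f j)) (by rw [hJ]; exact Ideal.subset_span ⟨j, rfl⟩)
    obtain ⟨b, hb⟩ := Ideal.mem_span_range_iff_exists_fun.1 h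
    choose b' hb' using fun l => hred (b l)
    refine ⟨b', ?_⟩
    rw [map_sum, map_mul, mul_comm (red v), ← hb]
    exact Finset.sum_congr rfl fun l _ => by rw [map_mul, hb', hA]
  choose B hB using hB
  let AM : Matrix (Fin m) (Fin c) T := (Matrix.of fun i l => A l i).map κ
  let BM : Matrix (Fin c) (Fin m) T := (Matrix.of fun l j => B j l).map κ
  let CM : Matrix (Fin m) (Fin m) T := E * (κ v • (1 : Matrix (Fin m) (Fin m) T) - AM * BM)
  have hCM : ∀ i j, πT (CM i j) = 0 := fun i j => by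
    let w : Fin m → P := fun l => (if l = j then v else 0) - ∑ r, A r l * B j r
    have hw : red (∑ l, w l * f l) = 0 := by
      have h : ∑ l, w l * f l = v * f j - ∑ r, B j r * ∑ l, A r l * f l := by
        simp only [w, sub_mul, ite_mul, zero_mul, Finset.sum_sub_distrib, Finset.sum_ite_eq',
          Finset.mem_univ, if_true]
        congr 1
        calc ∑ x, (∑ r, A r x * B j r) * f x = ∑ x, ∑ r, A r x * B j r * f x :=
              Finset.sum_congr rfl fun x _ => Finset.sum_mul _ _ _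
          _ = ∑ r, ∑ x, A r x * B j r * f x := Finset.sum_comm
          _ = ∑ r, B j r * ∑ l, A r l * f l := Finset.sum_congr rfl fun r _ =>
              ((Finset.mul_sum _ _ _).trans (Finset.sum_congr rfl fun l _ => by ring)).symm
      rw [h, map_sub, hB, sub_self]
    have h := h2 w hw i
    rw [← h, Matrix.mulVec, dotProduct, map_sum (MvPolynomial.map (Ideal.Quotient.mk I)), map_sum π₀]
    show πT (∑ l, E i l * (κ v • (1 : Matrix (Fin m) (Fin m) T) - AM * BM) l j) = _
    rw [map_sum]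
    refine Finset.sum_congr rfl fun l _ => ?_
    rw [map_mul, map_mul (MvPolynomial.map (Ideal.Quotient.mk I)), map_mul π₀, hEE₀, ← hπT (w l)]
    congr 2
    simp only [w, AM, BM, κ, Matrix.sub_apply, Matrix.smul_apply, Matrix.one_apply, smul_eq_mul, mul_ite,
      mul_one, mul_zero, Matrix.mul_apply, Matrix.map_apply, Matrix.of_apply, map_sub, map_sum, map_mul,
      apply_ite (algebraMap P T), map_zero]
    split_ifs <;> simp [P]
  let d : T := (κ v • (1 : Matrix (Fin m) (Fin m) T) - CM).det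
  have hd : d • E = E * AM * (BM * (κ v • (1 : Matrix (Fin m) (Fin m) T) - CM).adjugate) := by
    have hEC : E * CM = CM := by simp only [CM]; rw [← mul_assoc, hE]
    have h : E * (κ v • (1 : Matrix (Fin m) (Fin m) T) - CM) = E * AM * BM := by
      rw [mul_sub, hEC]
      simp only [CM]
      rw [mul_sub, sub_sub_cancel, Matrix.mul_assoc]
    rw [← Matrix.mul_assoc, ← h, Matrix.mul_assoc, Matrix.mul_adjugate, Matrix.mul_smul, Matrix.mul_one]
  have hπd : πT d = πT (κ v) ^ m := by
    show πT (Matrix.det _) = _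
    rw [RingHom.map_det, show πT.mapMatrix (κ v • (1 : Matrix (Fin m) (Fin m) T) - CM) =
      πT (κ v) • (1 : Matrix (Fin m) (Fin m) C) from ?_, Matrix.det_smul, Matrix.det_one, mul_one,
      Fintype.card_fin]
    ext i j
    simp [hCM, Matrix.one_apply, apply_ite πT]
  let d' : T := d * κ v
  have hvq : κ v ∉ q := fun h => hv₀ (by
    show π₀ (red v) ∈ q.map πT
    rw [← hπT]; exact Ideal.mem_map_of_mem _ h)
  have hdq : d ∉ q := fun h => hvq (by
    have : κ v ^ m ∈ q := by
      have h' : d - κ v ^ m ∈ q := hq (by rw [RingHom.mem_ker, map_sub, hπd, map_pow, sub_self])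
      simpa using sub_mem h h'
    exact Ideal.IsPrime.mem_of_pow_mem ‹_› m this)
  have hd'q : d' ∉ q := Ideal.IsPrime.mul_notMem ‹_› hdq hvq
  -- generators of `G` near `q`
  let g' : Fin c → T := (fun i => κ (f i)) ᵥ* (E * AM)
  have hg'G : ∀ l, g' l ∈ G := fun l => by
    show ((fun i => κ (f i)) ᵥ* (E * AM)) l ∈ G
    rw [← Matrix.vecMul_vecMul]
    show ∑ i, ((fun i => κ (f i)) ᵥ* E) i * AM i l ∈ G
    refine sum_mem fun i _ => G.mul_mem_right _ ?_
    rw [hG]
    exact Ideal.subset_span ⟨i, rfl⟩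
  have hdG : ∀ x ∈ G, d * x ∈ Ideal.span (Set.range g') := by
    intro x hx
    rw [hG] at hx
    induction hx using Submodule.span_induction with
    | mem y hy =>
      obtain ⟨j, rfl⟩ := hy
      have h : d * ∑ i, κ (f i) * E i j =
          (g' ᵥ* (BM * (κ v • (1 : Matrix (Fin m) (Fin m) T) - CM).adjugate)) j := by
        show _ = (((fun i => κ (f i)) ᵥ* (E * AM)) ᵥ* _) j
        rw [Matrix.vecMul_vecMul, ← hd, Matrix.vecMul_smul, Pi.smul_apply, smul_eq_mul]
        rfl
      show d * ∑ i, κ (f i) * E i j ∈ _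
      rw [h]
      show ∑ l, g' l * (BM * (κ v • (1 : Matrix (Fin m) (Fin m) T) - CM).adjugate) l j ∈ _
      exact sum_mem fun l _ => Ideal.mul_mem_right _ _ (Ideal.subset_span ⟨l, rfl⟩)
    | zero => simp
    | add y z _ _ h1 h2 => rw [mul_add]; exact add_mem h1 h2
    | smul a y _ h1 => rw [smul_eq_mul, mul_left_comm]; exact Ideal.mul_mem_left _ _ h1
  -- the presentation
  let Td := Localization.Away d'
  haveI : Algebra.Etale (MvPolynomial (Fin n) R) Td :=
    haveI := Algebra.Etale.of_isLocalizationAway (R := T) (A := Td) d'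
    Algebra.Etale.comp (MvPolynomial (Fin n) R) T Td
  obtain ⟨k, ψ, H, hψ, hψk⟩ := exists_pres_of_etale (R := R) (n := n) Td
  let S' := T ⧸ G
  let L := Localization.Away (Ideal.Quotient.mk G d')
  let χ : Td →+* L := IsLocalization.map L (Ideal.Quotient.mk G) (M := Submonoid.powers d')
    (T := Submonoid.powers (Ideal.Quotient.mk G d')) (by
      rintro _ ⟨e, rfl⟩; exact ⟨e, (map_pow _ _ _).symm⟩)
  have hχT : ∀ x : T, χ (algebraMap T Td x) = algebraMap S' L (Ideal.Quotient.mk G x) :=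
    fun x => IsLocalization.map_eq _ x
  have hχs : Function.Surjective χ := fun z => by
    obtain ⟨a, ⟨_, e, rfl⟩, rfl⟩ := IsLocalization.exists_mk'_eq (Submonoid.powers (Ideal.Quotient.mk G d')) z
    obtain ⟨a, rfl⟩ := Ideal.Quotient.mk_surjective a
    exact ⟨IsLocalization.mk' Td a (⟨d' ^ e, e, rfl⟩ : Submonoid.powers d'), by
      rw [IsLocalization.map_mk']; congr 1⟩
  have hu : IsUnit (algebraMap T Td d) := by
    have h := IsLocalization.Away.algebraMap_isUnit (S := Td) d'
    rw [map_mul] at h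
    exact isUnit_of_mul_isUnit_left h
  have hχk : RingHom.ker χ = Ideal.span (Set.range fun l => algebraMap T Td (g' l)) := by
    have h1 : RingHom.ker χ = G.map (algebraMap T Td) := by
      rw [IsLocalization.ker_map L (hT := Submonoid.map_powers (Ideal.Quotient.mk G) d'), Ideal.mk_ker]
    rw [h1]
    refine le_antisymm (Ideal.map_le_iff_le_comap.2 fun x hx => ?_) (Ideal.span_le.2 ?_)
    · have h := Ideal.mem_map_of_mem (algebraMap T Td) (hdG x hx)
      rw [map_mul, Ideal.unit_mul_mem_iff_mem _ hu, Ideal.map_span, ← Set.range_comp] at h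
      exact h
    · rintro _ ⟨l, rfl⟩; exact Ideal.mem_map_of_mem _ (hg'G l)
  have hχR : ∀ r : R, χ (algebraMap R Td r) = algebraMap R L r := fun r => by
    rw [IsScalarTower.algebraMap_apply R T Td, hχT]
    rfl
  let χA : Td →ₐ[R] L := { χ with commutes' := hχR }
  choose gl hgl using fun l => hψ (algebraMap T Td (g' l))
  let F'' : Fin (k + c) → MvPolynomial (Fin (k + n)) R := Fin.append H gl
  let φ : MvPolynomial (Fin (k + n)) R →ₐ[R] L := χA.comp ψ
  have hφs : Function.Surjective φ := hχs.comp hψ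
  have hφk : RingHom.ker φ.toRingHom = Ideal.span (Set.range F'') := by
    have h1 : RingHom.ker φ.toRingHom = (Ideal.span (Set.range fun l => algebraMap T Td (g' l))).comap ψ.toRingHom := by
      rw [← hχk, RingHom.comap_ker]; rfl
    have h2 : Ideal.span (Set.range fun l => algebraMap T Td (g' l)) = (Ideal.span (Set.range gl)).map ψ.toRingHom := by
      rw [Ideal.map_span, ← Set.range_comp]
      congr 2
      exact funext fun l => (hgl l).symm
    rw [h1, h2, Ideal.comap_map_of_surjective' ψ.toRingHom hψ, hψk, show Set.range F'' = Set.range H ∪ Set.range gl from ?_,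
      Ideal.span_union, sup_comm]
    simp only [F'']
    refine Set.ext fun x => ⟨?_, ?_⟩
    · rintro ⟨i, rfl⟩
      refine Fin.addCases (fun a => ?_) (fun b => ?_) i
      · exact Or.inl ⟨a, (Fin.append_left H gl a).symm⟩
      · exact Or.inr ⟨b, (Fin.append_right H gl b).symm⟩
    · rintro (⟨a, rfl⟩ | ⟨b, rfl⟩)
      · exact ⟨Fin.castAdd c a, Fin.append_left H gl a⟩
      · exact ⟨Fin.natAdd k b, Fin.append_right H gl b⟩
  let W := Synt.RelGCIRing R (k + n) (k + c) F''
  let e : W ≃ₐ[R] L := (Ideal.quotientEquivAlgOfEq R hφk.symm).trans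
    (Ideal.quotientKerAlgEquivOfSurjective hφs)
  -- the point
  haveI hqS : (q.map (Ideal.Quotient.mk G)).IsPrime :=
    Ideal.map_isPrime_of_surjective Ideal.Quotient.mk_surjective
      (by rw [Ideal.mk_ker]; exact le_trans (by rw [hker]; exact le_sup_left) hq)
  have hqSc : (q.map (Ideal.Quotient.mk G)).comap (Ideal.Quotient.mk G) = q := by
    rw [Ideal.comap_map_of_surjective' _ Ideal.Quotient.mk_surjective, Ideal.mk_ker, sup_eq_left]
    exact le_trans (by rw [hker]; exact le_sup_left) hq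
  have hdis : Disjoint (Submonoid.powers (Ideal.Quotient.mk G d') : Set S')
      (q.map (Ideal.Quotient.mk G) : Set S') := Set.disjoint_left.2 fun x ⟨a, ha⟩ hx => by
    have hx' : Ideal.Quotient.mk G d' ∈ q.map (Ideal.Quotient.mk G) :=
      Ideal.IsPrime.mem_of_pow_mem ‹_› a (by
        have ha' : Ideal.Quotient.mk G d' ^ a = x := ha
        rw [ha']; exact hx)
    rw [← Ideal.mem_comap, hqSc] at hx'
    exact hd'q hx'
  let qL : PrimeSpectrum L := ⟨(q.map (Ideal.Quotient.mk G)).map (algebraMap S' L),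
    IsLocalization.isPrime_of_isPrime_disjoint _ L _ hqS hdis⟩
  have hqL : qL.asIdeal.comap (algebraMap S' L) = q.map (Ideal.Quotient.mk G) :=
    IsLocalization.comap_map_of_isPrime_disjoint _ L hqS hdis
  let qW : PrimeSpectrum W := PrimeSpectrum.comap e.toRingEquiv.toRingHom qL
  let p := PrimeSpectrum.comap (algebraMap R W) qW
  have hpq : p.asIdeal = q.comap (algebraMap R T) := by
    show (qL.asIdeal.comap e.toRingEquiv.toRingHom).comap (algebraMap R W) = _
    rw [Ideal.comap_comap, show e.toRingEquiv.toRingHom.comp (algebraMap R W) =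
      ((algebraMap S' L).comp (Ideal.Quotient.mk G)).comp (algebraMap R T) from
      RingHom.ext fun r => e.commutes r, ← Ideal.comap_comap, ← Ideal.comap_comap, hqL, hqSc]
  have hIp : I ≤ p.asIdeal := by
    rw [hpq]
    exact Ideal.map_le_iff_le_comap.1 (le_trans (by rw [hker]; exact le_sup_right) hq)
  haveI hp₀ : (p.asIdeal.map (Ideal.Quotient.mk I)).IsPrime :=
    Ideal.map_isPrime_of_surjective Ideal.Quotient.mk_surjective (by rwa [Ideal.mk_ker])
  let p₀ : PrimeSpectrum (R ⧸ I) := ⟨p.asIdeal.map (Ideal.Quotient.mk I), hp₀⟩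
  have hp₀c : p₀.asIdeal.comap (Ideal.Quotient.mk I) = p.asIdeal := by
    show (p.asIdeal.map _).comap _ = _
    rw [Ideal.comap_map_of_surjective' _ Ideal.Quotient.mk_surjective, Ideal.mk_ker, sup_eq_left]
    exact hIp
  -- the map from the reduced presentation
  let Z₀ := Synt.RelGCIRing (R ⧸ I) n c F
  let Z := Localization.Away (Ideal.Quotient.mk (Ideal.span (Set.range F)) (red v))
  let IL := I.map (algebraMap R L)
  let ι : P →+* L ⧸ IL := ((Ideal.Quotient.mk IL).comp ((algebraMap S' L).comp (Ideal.Quotient.mk G))).comp κ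
  have hTker : ∀ x ∈ RingHom.ker πT, (Ideal.Quotient.mk IL) (algebraMap S' L (Ideal.Quotient.mk G x)) = 0 := by
    intro x hx
    rw [hker] at hx
    obtain ⟨a, ha, b, hb, rfl⟩ := Submodule.mem_sup.1 hx
    rw [map_add, Ideal.Quotient.eq_zero_iff_mem.2 ha, zero_add]
    refine Ideal.Quotient.eq_zero_iff_mem.2 ?_
    have h := Ideal.mem_map_of_mem ((algebraMap S' L).comp (Ideal.Quotient.mk G)) hb
    rw [Ideal.map_map] at h
    exact h
  have hι0 : ∀ x : P, π₀ (red x) = 0 → ι x = 0 := fun x hx =>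
    hTker _ (by rw [RingHom.mem_ker, hπT]; exact hx)
  let ι₀ : P₀ →+* L ⧸ IL := RingHom.liftOfSurjective red hred ⟨ι, fun x hx => hι0 x (by
    rw [RingHom.mem_ker.1 hx, map_zero])⟩
  have hι₀ : ∀ x, ι₀ (red x) = ι x := fun x => RingHom.liftOfRightInverse_comp_apply _ _ _ _ x
  let ι₁ : Z₀ →+* L ⧸ IL := Ideal.Quotient.lift _ ι₀ fun x hx => by
    obtain ⟨x, rfl⟩ := hred x
    rw [hι₀]
    exact hι0 x ((Ideal.span_le.2 (by rintro _ ⟨l, rfl⟩; exact hF l) :
      Ideal.span (Set.range F) ≤ RingHom.ker π₀.toRingHom) hx)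
  have hιv : IsUnit (ι₁ (Ideal.Quotient.mk (Ideal.span (Set.range F)) (red v))) := by
    show IsUnit (ι₀ (red v))
    rw [hι₀]
    show IsUnit (((Ideal.Quotient.mk IL).comp ((algebraMap S' L).comp (Ideal.Quotient.mk G))) (κ v))
    refine IsUnit.map (Ideal.Quotient.mk IL) ?_
    have h : IsUnit (((algebraMap S' L).comp (Ideal.Quotient.mk G)) (d * κ v)) :=
      IsLocalization.Away.algebraMap_isUnit (S := L) (Ideal.Quotient.mk G d')
    exact isUnit_of_mul_isUnit_right ((map_mul ((algebraMap S' L).comp (Ideal.Quotient.mk G)) d (κ v)) ▸ h)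
  let ρ : Z →+* L ⧸ IL := IsLocalization.Away.lift _ hιv
  have hρ : ∀ x : P, ρ (algebraMap Z₀ Z (Ideal.Quotient.mk _ (red x))) = ι x := fun x => by
    rw [IsLocalization.Away.lift_eq]
    exact hι₀ x
  have hρR : ∀ r : R, ρ (algebraMap (R ⧸ I) Z (Ideal.Quotient.mk I r)) = algebraMap R (L ⧸ IL) r := fun r => by
    have h1 : algebraMap (R ⧸ I) Z (Ideal.Quotient.mk I r) =
        algebraMap Z₀ Z (Ideal.Quotient.mk _ (red (MvPolynomial.C r))) := by
      rw [IsScalarTower.algebraMap_apply (R ⧸ I) Z₀ Z]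
      congr 1
      show _ = Ideal.Quotient.mk _ (MvPolynomial.map (Ideal.Quotient.mk I) (MvPolynomial.C r))
      rw [MvPolynomial.map_C]
      rfl
    rw [h1, hρ]
    show Ideal.Quotient.mk IL (algebraMap S' L (Ideal.Quotient.mk G (algebraMap P T (MvPolynomial.C r)))) = _
    rw [← MvPolynomial.algebraMap_eq, ← IsScalarTower.algebraMap_apply]
    rfl
  have hρinj : Function.Injective (PrimeSpectrum.comap ρ) := fun Q Q' h => by
    have hι : ∀ x : P, ι x ∈ Q.asIdeal ↔ ι x ∈ Q'.asIdeal := fun x => by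
      rw [← hρ x, ← Ideal.mem_comap, ← Ideal.mem_comap]
      exact SetLike.ext_iff.1 (congrArg PrimeSpectrum.asIdeal h) _
    refine PrimeSpectrum.ext (SetLike.ext fun z => ?_)
    obtain ⟨z, rfl⟩ := Ideal.Quotient.mk_surjective z
    obtain ⟨⟨s, ⟨_, a, rfl⟩⟩, hs⟩ := IsLocalization.surj (Submonoid.powers (Ideal.Quotient.mk G d')) z
    obtain ⟨s, rfl⟩ := Ideal.Quotient.mk_surjective s
    obtain ⟨x, hx⟩ := hpT s
    have hu' : IsUnit (Ideal.Quotient.mk IL (algebraMap S' L (Ideal.Quotient.mk G d' ^ a))) := by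
      rw [map_pow]
      exact ((IsLocalization.Away.algebraMap_isUnit (Ideal.Quotient.mk G d')).pow a).map _
    have key : Ideal.Quotient.mk IL z * Ideal.Quotient.mk IL (algebraMap S' L (Ideal.Quotient.mk G d' ^ a)) = ι x := by
      rw [← map_mul, hs]
      have h0 := hTker _ hx
      rw [map_sub, map_sub, map_sub, sub_eq_zero] at h0
      exact h0
    rw [← Ideal.mul_unit_mem_iff_mem Q.asIdeal hu', ← Ideal.mul_unit_mem_iff_mem Q'.asIdeal hu', key]
    exact hι x
  have hdimL := ringKrullDim_fibre_le I p.asIdeal hIp p₀.asIdeal hp₀c ρ hρR hρinj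
  obtain ⟨eZ⟩ := CILib.exists_away_equiv F (red v)
  have hdimZ := (CILib.ringKrullDim_fiber_congr eZ p₀).ge
  let QL := PrimeSpectrum.preimageEquivFiber R L p ⟨qL, PrimeSpectrum.ext (by
    show qL.asIdeal.comap (algebraMap R L) = (qL.asIdeal.comap e.toRingEquiv.toRingHom).comap (algebraMap R W)
    rw [Ideal.comap_comap]
    congr 1
    exact RingHom.ext fun r => (e.commutes r).symm)⟩
  haveI : Nontrivial (p₀.asIdeal.Fiber (Synt.RelGCIRing (R ⧸ I) (n + 1) (c + 1) (CILib.awayPres F (red v)))) := by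
    by_contra hnt
    haveI := not_nontrivial_iff_subsingleton.1 hnt
    have h0 : ringKrullDim (p₀.asIdeal.Fiber (Synt.RelGCIRing (R ⧸ I) (n + 1) (c + 1) (CILib.awayPres F (red v)))) = ⊥ :=
      ringKrullDim_eq_bot_of_subsingleton
    haveI : Nontrivial (p.asIdeal.Fiber L) := ⟨⟨0, 1, fun h => QL.2.ne_top ((Ideal.eq_top_iff_one _).2 (h ▸ QL.asIdeal.zero_mem))⟩⟩
    have h1 := hdimL.trans ((CILib.ringKrullDim_fiber_congr eZ p₀).le)
    rw [h0] at h1
    exact absurd (le_bot_iff.1 h1) (ringKrullDim_nonneg_of_nontrivial.trans_lt' (WithBot.bot_lt_coe _)).ne'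
  obtain ⟨hcn, hdim⟩ := hrel p₀ inferInstance
  have hle : ringKrullDim (p.asIdeal.Fiber W) ≤ ((n - c : ℕ) : WithBot ℕ∞) := by
    rw [CILib.ringKrullDim_fiber_congr e p, show n - c = n + 1 - (c + 1) by omega, ← hdim]
    exact hdimL.trans (CILib.ringKrullDim_fiber_congr eZ p₀).le
  have hmem : qW ∈ CILib.smallLocus R (n - c) := CILib.mem_smallLocus_of_ringKrullDim_le p hle qW rfl
  obtain ⟨J, hJq, hJsub⟩ := CILib.exists_ideal_smallLocus (R := R) (S := W) (n - c)
  obtain ⟨hb, hhJ, hhq⟩ := SetLike.not_le_iff_exists.1 (hJq qW hmem)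
  obtain ⟨h, rfl⟩ := Ideal.Quotient.mk_surjective hb
  have hgci : Synt.IsRelGCI R (k + n + 1) (k + c + 1) (CILib.awayPres F'' h) :=
    CILib.isRelGCI_awayPres F'' h (by omega) (by rw [show k + n - (k + c) = n - c by omega]; exact hJsub _ hhJ)
  obtain ⟨e'⟩ := CILib.exists_away_equiv F'' h
  have hsW : Synt.IsSyntomic R (Localization.Away (Ideal.Quotient.mk (Ideal.span (Set.range F'')) h)) :=
    CILib.isSyntomic_congr e'.symm (CILib.isSyntomic_of_isRelGCI _ hgci)
  let g := e (Ideal.Quotient.mk (Ideal.span (Set.range F'')) h)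
  have hgq : g ∉ qL.asIdeal := hhq
  let a := (IsLocalization.Away.sec (Ideal.Quotient.mk G d') g).1
  have hag : Associated (algebraMap S' L a) g := IsLocalization.Away.associated_sec_fst _ g
  obtain ⟨a', ha'⟩ := Ideal.Quotient.mk_surjective a
  have haq : a' ∉ q := fun h' => hgq (by
    have : a ∈ q.map (Ideal.Quotient.mk G) := ha' ▸ Ideal.mem_map_of_mem _ h'
    rw [← hqL] at this
    obtain ⟨u, hu⟩ := hag
    exact hu ▸ Ideal.mul_mem_right _ _ this)
  refine ⟨d' * a', Ideal.IsPrime.mul_notMem ‹_› hd'q haq, ?_⟩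
  rw [map_mul, ha']
  let Lg := Localization.Away g
  haveI : IsLocalization.Away (Ideal.Quotient.mk G d' * a) Lg :=
    IsLocalization.Away.mul_of_associated (S := L) _ a g hag
  haveI : IsScalarTower R S' Lg := IsScalarTower.of_algebraMap_eq fun r =>
    (IsScalarTower.algebraMap_apply R L Lg r).trans
      ((congrArg _ (IsScalarTower.algebraMap_apply R S' L r)).trans (IsScalarTower.algebraMap_apply S' L Lg _).symm)
  let e2 : Localization.Away (Ideal.Quotient.mk (Ideal.span (Set.range F'')) h) ≃ₐ[R] Lg :=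
    IsLocalization.algEquivOfAlgEquiv (M := Submonoid.powers (Ideal.Quotient.mk (Ideal.span (Set.range F'')) h))
      (T := Submonoid.powers g) _ _ e (Submonoid.map_powers _ _)
  let e3 : Lg ≃ₐ[R] Localization.Away (Ideal.Quotient.mk G d' * a) :=
    (IsLocalization.algEquiv (Submonoid.powers (Ideal.Quotient.mk G d' * a)) Lg _).restrictScalars R
  exact CILib.isSyntomic_congr (e2.trans e3) hsW

end Groth.Agent.SyntLiftLib
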