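import Mathlib
import Groth.Agent.SyntLiftLib.Matrix
import Groth.Agent.SyntLiftLib.Nbhd
import Groth.Agent.SmLift.Main
import Groth.Agent.CILib.RelGCIQuot

/-!
Syntomic algebras lift along surjective ring maps.
-/

set_option autoImplicit false

universe u

open Matrix

namespace Groth.Agent.SyntLiftLib

variable {A : Type u} [CommRing A] {I : Ideal A} {C : Type u} [CommRing C] [Algebra (A ⧸ I) C]

/-- An idempotent matrix over an etale neighbourhood lifting one modulo the ideal of the closed subscheme. -/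
theorem exists_idempotent_nbhd {P : Type u} [CommRing P] (K : Ideal P) {m : ℕ}
    (E₀ : Matrix (Fin m) (Fin m) P) (hE₀ : ∀ i j, (E₀ * E₀ - E₀) i j ∈ K) :
    ∃ (S : Type u) (_ : CommRing S) (_ : Algebra P S) (_ : Algebra.Etale P S)
      (σ : S →ₐ[P] P ⧸ K) (E : Matrix (Fin m) (Fin m) S),
      RingHom.ker σ.toRingHom = K.map (algebraMap P S) ∧ E * E = E ∧
        ∀ i j, σ (E i j) = Ideal.Quotient.mk K (E₀ i j) := by
  classical
  let H := PairHens.Hz P K
  have hH : Hens2.IsPairHenselization P K H := PairHens.isPairHenselization P K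
  haveI := hH.1
  obtain ⟨EH, hEH, hEH₀⟩ := Hensel.exists_idempotent_matrix (I := K.map (algebraMap P H))
    (E₀.map (algebraMap P H)) (by
      ext i j
      rw [Matrix.map_apply, Matrix.zero_apply, Ideal.Quotient.eq_zero_iff_mem, ← Matrix.map_mul,
        Matrix.sub_apply, Matrix.map_apply, Matrix.map_apply, ← map_sub, ← Matrix.sub_apply]
      exact Ideal.mem_map_of_mem _ (hE₀ i j))
  obtain ⟨S₁, _, _, _, hbij₁, φ, hφ⟩ := PairHens.exists_nbhd_finset hH
    (Finset.univ.image fun p : Fin m × Fin m => EH p.1 p.2)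
  choose E₁ hE₁ using fun i j => hφ (Finset.mem_image_of_mem (fun p : Fin m × Fin m => EH p.1 p.2)
    (Finset.mem_univ (i, j)))
  let M₁ : Matrix (Fin m) (Fin m) S₁ := Matrix.of E₁
  have hM₁ : M₁.map φ = EH := Matrix.ext hE₁
  have hzero : ∀ p : Fin m × Fin m, φ ((M₁ * M₁ - M₁) p.1 p.2) = 0 := fun p => by
    have h0 : φ.toRingHom.mapMatrix (M₁ * M₁ - M₁) = 0 := by
      rw [map_sub, map_mul]
      show M₁.map φ * M₁.map φ - M₁.map φ = 0
      rw [hM₁, hEH, sub_self]
    exact congrFun (congrFun h0 p.1) p.2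
  choose u hu huz using fun p => PairHens.exists_killed φ _ (hzero p)
  obtain ⟨v, hv, hdvd, hbij⟩ := PairHens.exists_away ((PairHens.εH P K).comp φ) (∏ p, u p)
    (by rw [map_prod]; exact IsUnit.prod_iff.2 fun p _ => hu p)
  let S := Localization.Away v
  haveI : Algebra.Etale P S :=
    haveI := Algebra.Etale.of_isLocalizationAway (R := S₁) (A := S) v
    Algebra.Etale.comp P S₁ S
  obtain ⟨σ, hσ⟩ := PairHens.exists_pointOfBijective hbij
  have hker : RingHom.ker σ.toRingHom = K.map (algebraMap P S) := by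
    refine le_antisymm (fun x hx => hσ x hx) (Ideal.map_le_iff_le_comap.2 fun p hp => ?_)
    show σ (algebraMap P S p) = 0
    rw [σ.commutes]
    exact Ideal.Quotient.eq_zero_iff_mem.2 hp
  have hφv : IsUnit (φ v) := (PairHens.isUnit_iff (φ v)).2 hv
  let φ' : S →ₐ[P] H := IsLocalization.liftAlgHom (M := Submonoid.powers v) (f := φ) (by
    rintro ⟨_, k, rfl⟩; rw [map_pow]; exact hφv.pow k)
  let ιS : S₁ →+* S := algebraMap S₁ S
  have hφ' : ∀ x, φ' (ιS x) = φ x := fun x => IsLocalization.lift_eq _ x
  let E : Matrix (Fin m) (Fin m) S := M₁.map ιS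
  refine ⟨S, inferInstance, inferInstance, inferInstance, σ, E, hker, ?_, fun i j => ?_⟩
  · ext i j
    rw [← sub_eq_zero, ← Matrix.map_mul]
    show ιS ((M₁ * M₁) i j) - ιS (M₁ i j) = 0
    rw [← map_sub, ← Matrix.sub_apply]
    obtain ⟨c, hc⟩ := (Finset.dvd_prod_of_mem u (Finset.mem_univ (i, j))).trans hdvd
    have hu' : IsUnit (ιS v) := IsLocalization.map_units S (⟨v, 1, pow_one v⟩ : Submonoid.powers v)
    refine hu'.mul_right_eq_zero.1 ?_
    rw [← map_mul, show v * (M₁ * M₁ - M₁) i j = 0 by
      linear_combination ((M₁ * M₁ - M₁) i j) * hc + c * huz (i, j), map_zero]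
  · obtain ⟨p, hp⟩ := PairHens.exists_sub_mem_of_bijective hbij (E i j)
    have hp0 : σ (E i j - algebraMap P S p) = 0 := hker.ge hp
    rw [map_sub, σ.commutes, sub_eq_zero] at hp0
    have h := Ideal.mem_map_of_mem φ' hp
    rw [show (K.map (algebraMap P S)).map φ' = K.map (algebraMap P H) by
      rw [← Ideal.map_coe φ', Ideal.map_map]
      exact congrArg (fun r => K.map r) φ'.comp_algebraMap, map_sub, φ'.commutes] at h
    have hE' : φ' (E i j) - algebraMap P H (E₀ i j) ∈ K.map (algebraMap P H) := by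
      rw [show φ' (E i j) = φ (M₁ i j) from hφ' _, show φ (M₁ i j) = EH i j from hE₁ i j]
      exact Ideal.Quotient.eq.1 (congrFun (congrFun hEH₀ i) j)
    have hd : p - E₀ i j ∈ K := by
      rw [← PairHens.comap_map_eq hH K 1 (pow_one K).le]
      rw [Ideal.mem_comap, map_sub]
      have := sub_mem hE' h
      rwa [sub_sub_sub_cancel_left] at this
    rw [hp0]
    exact Ideal.Quotient.eq.2 hd

theorem isSyntomic_away_of_away {R S : Type u} [CommRing R] [CommRing S] [Algebra R S] (g t : S)
    (h : Synt.IsSyntomic R (Localization.Away g)) :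
    Synt.IsSyntomic R (Localization.Away (algebraMap S (Localization.Away t) g)) := by
  let L := Localization.Away (algebraMap S (Localization.Away g) t)
  let M := Localization.Away (algebraMap S (Localization.Away t) g)
  have hL : Synt.IsSyntomic R L := CILib.isSyntomic_away h (algebraMap S (Localization.Away g) t) L
  haveI : IsLocalization.Away (g * t) L :=
    IsLocalization.Away.mul' (Localization.Away g) L g t
  haveI : IsLocalization.Away (g * t) M :=
    IsLocalization.Away.mul (Localization.Away t) M t g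
  exact CILib.isSyntomic_congr ((IsLocalization.algEquiv (Submonoid.powers (g * t)) L M).restrictScalars R) hL

/-- A syntomic algebra over `A/I` lifts to a syntomic algebra over `A`. -/
theorem exists_syntomic_lift [Algebra A C] [IsScalarTower A (A ⧸ I) C] (hC : Synt.IsSyntomic (A ⧸ I) C) :
    ∃ (R : Type u) (_ : CommRing R) (_ : Algebra A R), Synt.IsSyntomic A R ∧
      Nonempty ((R ⧸ I.map (algebraMap A R)) ≃ₐ[A] C) := by
  classical
  haveI := hC.2.1
  obtain ⟨n, π₀, hπ₀, ⟨s, hs⟩⟩ := (inferInstance : Algebra.FinitePresentation (A ⧸ I) C).out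
  let P := MvPolynomial (Fin n) A
  let red : P →+* MvPolynomial (Fin n) (A ⧸ I) := MvPolynomial.map (Ideal.Quotient.mk I)
  have hred : Function.Surjective red := MvPolynomial.map_surjective _ Ideal.Quotient.mk_surjective
  choose lft hlft using fun p => hred p
  let m := s.card
  let f : Fin m → P := fun j => lft (s.equivFin.symm j).1
  let J := RingHom.ker π₀.toRingHom
  have hJ : J = Ideal.span (Set.range fun j => red (f j)) := by
    rw [show (fun j => red (f j)) = fun j => (s.equivFin.symm j).1 from funext fun j => hlft _,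
      Set.range_comp' (g := Subtype.val), Equiv.range_eq_univ, Set.image_univ, Subtype.range_coe]
    exact hs.symm
  haveI := (conormal_projective J ⟨s, hs⟩
    (CILib.isSyntomic_congr (Ideal.quotientKerAlgEquivOfSurjective hπ₀).symm hC)).2
  obtain ⟨E₀, hE₀₁, hE₀₂, hE₀⟩ := exists_matrix red hred J f hJ
  let π : P →ₐ[A] C :=
    { toRingHom := π₀.toRingHom.comp red
      commutes' := fun a => by
        show π₀ (red (MvPolynomial.C a)) = _
        rw [MvPolynomial.map_C, ← MvPolynomial.algebraMap_eq, π₀.commutes]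
        exact (IsScalarTower.algebraMap_apply A (A ⧸ I) C a).symm }
  have hπ : Function.Surjective π := hπ₀.comp hred
  let K : Ideal P := RingHom.ker π.toRingHom
  have hredI : RingHom.ker red = I.map (algebraMap A P) := by
    show RingHom.ker (MvPolynomial.map (Ideal.Quotient.mk I)) = _
    rw [MvPolynomial.ker_map, Ideal.mk_ker]
    rfl
  have hKeq : K = Ideal.span (Set.range f) ⊔ I.map (algebraMap A P) := by
    show RingHom.ker (π₀.toRingHom.comp red) = _
    rw [← RingHom.comap_ker, ← hredI, ← Ideal.comap_map_of_surjective' _ hred, Ideal.map_span, ← Set.range_comp]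
    exact congrArg (Ideal.comap red) hJ
  have hnb : ∀ x : P, red x ∈ J ^ 2 → x ∈ SmLift.nb I K := fun x hx => by
    have hmap : (K ^ 2).map red = J ^ 2 := by
      rw [Ideal.map_pow]
      congr 1
      exact Ideal.map_comap_of_surjective red hred J
    rw [← hmap, Ideal.mem_map_iff_of_surjective red hred] at hx
    obtain ⟨y, hy, hyx⟩ := hx
    have h : x - y ∈ I.map (algebraMap A P) := by
      rw [← hredI, RingHom.mem_ker, map_sub, hyx, sub_self]
    simpa using add_mem (Ideal.mem_sup_left hy : y ∈ SmLift.nb I K) (Ideal.mem_sup_right h)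
  obtain ⟨S, _, _, _, σ, E, hσk, hE, hσE⟩ := exists_idempotent_nbhd K E₀ fun i j => hE₀ i j
  letI : Algebra A S := ((algebraMap P S).comp (algebraMap A P)).toAlgebra
  haveI : IsScalarTower A P S := .of_algebraMap_eq fun _ => rfl
  let toC : P ⧸ K →ₐ[A] C := Ideal.Quotient.liftₐ K π fun _ h => h
  let π' : S →ₐ[A] C := toC.comp (σ.restrictScalars A)
  have hπ'P : ∀ p, π' (algebraMap P S p) = π p := fun p => by
    show toC (σ (algebraMap P S p)) = π p
    rw [σ.commutes]
    rfl
  have hπ'E : ∀ i j, π' (E i j) = π (E₀ i j) := fun i j => by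
    show toC (σ (E i j)) = _
    rw [hσE]
    rfl
  let K' : Ideal S := K.map (algebraMap P S)
  have hkerπ' : RingHom.ker π'.toRingHom = K' := by
    refine le_antisymm (fun x hx => ?_) ?_
    · refine hσk.le ?_
      obtain ⟨p, hp⟩ := Ideal.Quotient.mk_surjective (σ x)
      have h0 : toC (σ x) = 0 := hx
      rw [← hp] at h0
      show σ x = 0
      rw [← hp]
      exact Ideal.Quotient.eq_zero_iff_mem.2 h0
    · refine Ideal.map_le_iff_le_comap.2 fun p hp => ?_
      show π' (algebraMap P S p) = 0
      rw [hπ'P]; exact hp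
  let fS : Fin m → S := fun j => algebraMap P S (f j)
  have hK' : K' = Ideal.span (Set.range fS) ⊔ I.map (algebraMap A S) := by
    show K.map (algebraMap P S) = _
    rw [hKeq, Ideal.map_sup, Ideal.map_span, ← Set.range_comp, Ideal.map_map]
    rfl
  have hgf : ∀ j, SmLift.eqn fS E j - fS j ∈ SmLift.nb I K' := fun j => by
    have h := Ideal.mem_map_of_mem (algebraMap P S) (hnb _ (hE₀₁ j))
    rw [show (SmLift.nb I K).map (algebraMap P S) = SmLift.nb I K' by
      show (K ^ 2 ⊔ I.map (algebraMap A P)).map (algebraMap P S) = _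
      rw [Ideal.map_sup, Ideal.map_pow, Ideal.map_map]
      rfl, map_sub, map_sum] at h
    have h2 : SmLift.eqn fS E j - ∑ i, algebraMap P S (E₀ i j * f i) ∈ SmLift.nb I K' := by
      show ∑ i, E i j * fS i - _ ∈ _
      rw [← Finset.sum_sub_distrib]
      refine Ideal.mem_sup_left (sum_mem fun l _ => ?_)
      rw [map_mul, ← sub_mul, pow_two]
      refine Ideal.mul_mem_mul ?_ (hK' ▸ Ideal.mem_sup_left (Ideal.subset_span ⟨l, rfl⟩))
      rw [← hkerπ', RingHom.mem_ker]
      show π' (_ - _) = 0
      rw [map_sub, hπ'E, hπ'P, sub_self]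
    have := add_mem h2 h
    rwa [sub_add_sub_cancel] at this
  obtain ⟨r, hr1, hrf⟩ := SmLift.exists_killing hK' (SmLift.eqn fS E) hgf
  let T := Localization.Away r
  haveI : IsScalarTower A P T := .of_algebraMap_eq fun a => by
    rw [IsScalarTower.algebraMap_apply A S T, IsScalarTower.algebraMap_apply A P S,
      ← IsScalarTower.algebraMap_apply P S T]
  haveI : Algebra.Etale P T :=
    haveI := Algebra.Etale.of_isLocalizationAway (R := S) (A := T) r
    Algebra.Etale.comp P S T
  have hπr : π' r = 1 := by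
    rw [← sub_eq_zero, ← map_one π', ← map_sub]
    rw [← hkerπ'] at hr1
    exact hr1
  let πT : T →ₐ[A] C := IsLocalization.liftAlgHom (M := Submonoid.powers r) (f := π') (by
    rintro ⟨_, k, rfl⟩; rw [map_pow, hπr, one_pow]; exact isUnit_one)
  have hπT : ∀ x, πT (algebraMap S T x) = π' x := fun x => IsLocalization.lift_eq _ x
  let ET : Matrix (Fin m) (Fin m) T := (algebraMap S T).mapMatrix E
  let G : Ideal T := Ideal.span (Set.range fun j => ∑ i, algebraMap P T (f i) * ET i j)
  have hGe : G = Ideal.span (Set.range fun j => algebraMap S T (SmLift.eqn fS E j)) := by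
    show Ideal.span _ = _
    congr 2
    funext j
    show _ = algebraMap S T (∑ i, E i j * fS i)
    rw [map_sum]
    exact Finset.sum_congr rfl fun i _ => by
      rw [IsScalarTower.algebraMap_apply P S T, map_mul, mul_comm]; rfl
  have hkerT : RingHom.ker πT.toRingHom = G ⊔ I.map (algebraMap A T) := by
    rw [hGe, ← SmLift.map_eq_sup r (IsLocalization.Away.algebraMap_isUnit r) hK' (SmLift.eqn fS E) (fun j =>
      sum_mem fun i _ => K'.mul_mem_left _ (hK' ▸ Ideal.mem_sup_left (Ideal.subset_span ⟨i, rfl⟩))) hrf]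
    refine le_antisymm (fun z hz => ?_) (Ideal.map_le_iff_le_comap.2 fun x hx => ?_)
    · obtain ⟨a, ⟨w, hw⟩, rfl⟩ := IsLocalization.exists_mk'_eq (Submonoid.powers r) z
      refine (IsLocalization.mk'_mem_map_algebraMap_iff (Submonoid.powers r) T K' a ⟨w, hw⟩).2
        ⟨1, one_mem _, ?_⟩
      rw [one_mul, ← hkerπ']
      have h0 := congrArg (· * πT (algebraMap S T w)) (show πT (IsLocalization.mk' T a ⟨w, hw⟩) = 0 from hz)
      simp only [zero_mul, ← map_mul] at h0
      rw [IsLocalization.mk'_spec, hπT] at h0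
      exact h0
    · show πT (algebraMap S T x) = 0
      rw [hπT]; rw [← hkerπ'] at hx; exact hx
  haveI : Algebra.FinitePresentation A T := Algebra.FinitePresentation.trans A P T
  let S' := T ⧸ G
  have hGker : G ≤ RingHom.ker πT.toRingHom := hkerT.ge.trans' le_sup_left
  let πS : S' →ₐ[A] C := Ideal.Quotient.liftₐ G πT fun a ha => hGker ha
  let IS := I.map (algebraMap A S')
  have hIS : IS = (I.map (algebraMap A T)).map (Ideal.Quotient.mk G) := by
    rw [Ideal.map_map]; rfl
  have hkerS : RingHom.ker πS.toRingHom = IS := by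
    refine le_antisymm (fun z hz => ?_) (Ideal.map_le_iff_le_comap.2 fun a ha => ?_)
    · obtain ⟨z, rfl⟩ := Ideal.Quotient.mk_surjective z
      have hz' : z ∈ G ⊔ I.map (algebraMap A T) := by rw [← hkerT]; exact hz
      have := Ideal.mem_map_of_mem (Ideal.Quotient.mk G) hz'
      rwa [Ideal.map_sup, Ideal.map_quotient_self, bot_sup_eq, ← hIS] at this
    · show πS (algebraMap A S' a) = 0
      rw [AlgHom.commutes, IsScalarTower.algebraMap_apply A (A ⧸ I) C, Ideal.Quotient.algebraMap_eq,
        Ideal.Quotient.eq_zero_iff_mem.2 ha, map_zero]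
  have hπS : Function.Surjective πS := fun c => by
    obtain ⟨x, rfl⟩ := hπ c
    exact ⟨Ideal.Quotient.mk G (algebraMap S T (algebraMap P S x)), (hπT _).trans (hπ'P x)⟩
  let Q : Set S' := {g | Synt.IsSyntomic A (Localization.Away g)}
  have hQ : Ideal.span Q ⊔ IS = ⊤ := by
    by_contra hne
    obtain ⟨M, hM, hle⟩ := Ideal.exists_le_maximal _ hne
    haveI := hM.isPrime
    have hMT : RingHom.ker πT.toRingHom ≤ M.comap (Ideal.Quotient.mk G) := by
      rw [hkerT, ← Ideal.map_le_iff_le_comap, Ideal.map_sup, Ideal.map_quotient_self, bot_sup_eq, ← hIS]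
      exact le_sup_right.trans hle
    obtain ⟨d, hd, hdS⟩ := exists_syntomic_nbhd I hC π₀ hπ₀ f hJ E₀
      (fun c hc i => hE₀₂ c (by show red _ ∈ _; rw [show red _ = 0 from hc]; exact zero_mem _) i)
      πT.toRingHom (fun p => by
        show πT (algebraMap P T p) = π p
        rw [IsScalarTower.algebraMap_apply P S T, hπT, hπ'P])
      ET (by show (algebraMap S T).mapMatrix E * (algebraMap S T).mapMatrix E = _; rw [← map_mul, hE])
      (fun i j => (hπT _).trans (hπ'E i j)) G rfl hkerT (M.comap (Ideal.Quotient.mk G)) hMT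
    exact hd (hle (Ideal.mem_sup_left (Ideal.subset_span hdS)))
  obtain ⟨t, ht, b, hb, htb⟩ := Submodule.mem_sup.1 ((Ideal.eq_top_iff_one _).1 hQ)
  obtain ⟨gs, hgs, hgs1⟩ := Submodule.mem_span_finite_of_mem_span ht
  let R := Localization.Away t
  have hsyn : Synt.IsSyntomic A R := by
    refine CILib.isSyntomic_of_span (algebraMap S' R '' gs) ?_ ?_
    · rw [← Ideal.map_span]
      exact Ideal.eq_top_of_isUnit_mem _ (Ideal.mem_map_of_mem _ hgs1) (IsLocalization.Away.algebraMap_isUnit t)
    · rintro _ ⟨g, hg, rfl⟩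
      exact isSyntomic_away_of_away g t (hgs hg)
  obtain ⟨e⟩ := CILib.exists_quotient_away_equiv I t R
    (by rw [show t - 1 = -b by rw [← htb]; ring]; exact neg_mem hb)
  exact ⟨R, inferInstance, inferInstance, hsyn, ⟨e.symm.trans ((Ideal.quotientEquivAlgOfEq A hkerS.symm).trans
    (Ideal.quotientKerAlgEquivOfSurjective hπS))⟩⟩

end Groth.Agent.SyntLiftLib
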